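import Groth.Agent.L22.Sard.Local
import Groth.Agent.L22.CotSmooth.Criterion
import Groth.Agent.L22.FibreDim
import Groth.Agent.L18.KerReduced
import Groth.Agent.L20.FibreScheme
import Groth.Agent.L20.RedGeneric
import Groth.Agent.L03.Euler.Dim
import Mathlib.RingTheory.Smooth.Field

/-!
In characteristic zero the image of the rank `≤ r` locus has dimension at most `r`.
-/

set_option autoImplicit false
set_option linter.style.haveILetI false
set_option backward.isDefEq.respectTransparency false

universe u

open CategoryTheory CategoryTheory.Limits AlgebraicGeometry TopologicalSpace IsLocalRing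

namespace Groth.L22.Sard

theorem dim_union_le {T : Type*} [TopologicalSpace T] {A B : Set T} (hA : IsClosed A) (hB : IsClosed B)
    {r : WithBot ℕ∞} (h1 : topologicalKrullDim A ≤ r) (h2 : topologicalKrullDim B ≤ r) :
    topologicalKrullDim ↥(A ∪ B) ≤ r := by
  refine iSup_le fun p => ?_
  have key : ∀ {C : Set T}, (p.last : Set ↥(A ∪ B)) ⊆ Subtype.val ⁻¹' C →
      topologicalKrullDim C ≤ r → (p.length : WithBot ℕ∞) ≤ r := fun {C} hsub hC => by
    refine (Groth.L06.Dim.length_le_of_last_subset p hsub).trans (le_trans ?_ hC)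
    exact (Topology.IsEmbedding.subtypeVal.isInducing.restrictPreimage C).topologicalKrullDim_le
  rcases isPreirreducible_iff_isClosed_union_isClosed.1 p.last.isIrreducible.isPreirreducible
    (Subtype.val ⁻¹' A) (Subtype.val ⁻¹' B) (hA.preimage continuous_subtype_val) (hB.preimage continuous_subtype_val)
    (fun z _ => z.2) with h | h
  · exact key h h1
  · exact key h h2

/-- The local ring at a closed point of an integral scheme of finite type has full dimension. -/
theorem dim_le_stalk (k : Type u) [Field k] {X : Scheme.{u}} [IsIntegral X] (q : X ⟶ Spec (CommRingCat.of k))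
    [LocallyOfFiniteType q] {x : X} (hx : IsClosed ({x} : Set X)) :
    topologicalKrullDim X ≤ ringKrullDim (X.presheaf.stalk x) := by
  letI : X.Over (Spec (CommRingCat.of k)) := ⟨q⟩
  haveI : LocallyOfFiniteType (X ↘ Spec (CommRingCat.of k)) := inferInstanceAs (LocallyOfFiniteType q)
  obtain ⟨a, c, ha, hc, hac⟩ := Groth.L22.SchemeDim.exists_localDim k X x
  obtain ⟨a', ha', htr⟩ := Groth.L22.SchemeDim.exists_dim_closure_eq_trdeg k X x
  obtain ⟨m, hm, -, hopen⟩ := Groth.L22.SchemeDim.exists_dim_eq_trdeg k X
  have hl : (m : WithBot ℕ∞) ≤ FlatMor.localDim X x := le_iInf fun U => by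
    rw [← hopen U.1 ⟨x, U.2⟩]
    exact le_rfl
  rw [hx.closure_eq] at ha'
  have ha0 : a' = 0 := by
    have h0 : topologicalKrullDim ({x} : Set X) = 0 :=
      le_antisymm (topologicalKrullDim_zero_of_discreteTopology _)
        (Groth.L03.Euler.zero_le_topologicalKrullDim (Set.singleton_nonempty x))
    rw [h0] at ha'
    exact_mod_cast ha'.symm
  have haa : a = a' := by exact_mod_cast ha.symm.trans htr
  rw [hac, haa, ha0, zero_add] at hl
  rw [hm, hc]
  exact hl

theorem resMap_bijective (k : Type u) [Field k] [IsAlgClosed k] {X : Scheme.{u}} [X.Over (Spec (CommRingCat.of k))]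
    [LocallyOfFiniteType (X ↘ Spec (CommRingCat.of k))] {x : X} (hx : IsClosed ({x} : Set X)) :
    Function.Bijective (Curv2.resMap k X x) := by
  letI := Curv2.resAlgebra k X x
  haveI := Groth.L21.Disc.finite_residueField_of_isClosed k hx
  exact IsAlgClosed.algebraMap_bijective_of_isIntegral (k := k) (K := X.residueField x)

/-- Residue maps between closed points are surjective. -/
theorem residueFieldMap_surjective (k : Type u) [Field k] [IsAlgClosed k] {V W : Scheme.{u}}
    (qV : V ⟶ Spec (CommRingCat.of k)) (qW : W ⟶ Spec (CommRingCat.of k)) [LocallyOfFiniteType qV]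
    (g : V ⟶ W) (hg : g ≫ qW = qV) {x : V} (hx : IsClosed ({x} : Set V)) :
    Function.Surjective (g.residueFieldMap x).hom := by
  letI : V.Over (Spec (CommRingCat.of k)) := ⟨qV⟩
  letI : W.Over (Spec (CommRingCat.of k)) := ⟨qW⟩
  haveI : LocallyOfFiniteType (V ↘ Spec (CommRingCat.of k)) := inferInstanceAs (LocallyOfFiniteType qV)
  have h : CommRingCat.ofHom (Curv2.resMap k V x) =
      CommRingCat.ofHom (Curv2.resMap k W (g x)) ≫ g.residueFieldMap x := by
    apply Spec.map_injective
    rw [Spec.map_comp, Groth.L22.FibreDim.SpecMap_resMap, Groth.L22.FibreDim.SpecMap_resMap,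
      ← Category.assoc, Scheme.Hom.SpecMap_residueFieldMap_fromSpecResidueField, Category.assoc]
    show _ ≫ qV = _ ≫ g ≫ qW
    rw [hg]
  intro z
  obtain ⟨c, hc⟩ := (resMap_bijective k hx).2 z
  exact ⟨Curv2.resMap k W (g x) c, by rw [← hc]; exact (ConcreteCategory.congr_hom h c).symm⟩

/-- Generic smoothness in characteristic zero. -/
theorem exists_smooth_point (k : Type u) [Field k] [CharZero k] {V W : Scheme.{u}} [IsIntegral V] [IsIntegral W]
    (qV : V ⟶ Spec (CommRingCat.of k)) (qW : W ⟶ Spec (CommRingCat.of k)) [LocallyOfFiniteType qV]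
    [LocallyOfFiniteType qW] (g : V ⟶ W) [IsDominant g] [LocallyOfFinitePresentation g] (hg : g ≫ qW = qV) :
    genericPoint V ∈ g.smoothLocus := by
  rw [Scheme.Hom.mem_smoothLocus]
  set η := genericPoint V
  have hη : g η = genericPoint W := by
    refine ((genericPoint_spec W).eq ?_).symm
    have h := (genericPoint_spec V).image g.continuous
    rwa [Set.image_univ, g.denseRange.closure_range] at h
  let O := V.presheaf.stalk η
  let B := W.presheaf.stalk (g η)
  have hB : IsField B := by
    rw [show B = W.presheaf.stalk (g η) from rfl, hη]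
    exact Field.toIsField W.functionField
  letI : Field B := hB.toField
  letI : Field O := (Field.toIsField V.functionField).toField
  letI aO : Algebra k O := (Groth.L07.SyntOverField.toStalk qV η).hom.toAlgebra
  letI aB : Algebra k B := (Groth.L07.SyntOverField.toStalk qW (g η)).hom.toAlgebra
  letI aBO : Algebra B O := (g.stalkMap η).hom.toAlgebra
  haveI : Algebra.EssFiniteType k O := Groth.L07.SyntOverField.essFiniteType_stalk qV η
  letI : V.Over (Spec (CommRingCat.of k)) := ⟨qV⟩
  letI : W.Over (Spec (CommRingCat.of k)) := ⟨qW⟩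
  have hsX : (Groth.L07.SyntOverField.toStalk qV η).hom = Curv2.stalkMap k V η := by
    rw [Groth.L07.SyntOverField.toStalk_eq qV η ⊤ trivial]
    simp only [Scheme.Hom.appLE, Category.assoc, TopCat.Presheaf.germ_res]
    rfl
  have hsY : (Groth.L07.SyntOverField.toStalk qW (g η)).hom = Curv2.stalkMap k W (g η) := by
    rw [Groth.L07.SyntOverField.toStalk_eq qW (g η) ⊤ trivial]
    simp only [Scheme.Hom.appLE, Category.assoc, TopCat.Presheaf.germ_res]
    rfl
  haveI : IsScalarTower k B O := IsScalarTower.of_algebraMap_eq' <| by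
    show (Groth.L07.SyntOverField.toStalk qV η).hom =
      (g.stalkMap η).hom.comp (Groth.L07.SyntOverField.toStalk qW (g η)).hom
    rw [hsX, hsY]
    have h1 : CommRingCat.ofHom (Curv2.stalkMap k W (g η)) ≫ g.stalkMap η =
        CommRingCat.ofHom (Curv2.stalkMap k V η) := by
      apply Spec.map_injective
      rw [Spec.map_comp, Groth.L07.FieldStalk.SpecMap_stalkMap, Groth.L07.FieldStalk.SpecMap_stalkMap,
        Scheme.SpecMap_stalkMap_fromSpecStalk_assoc]
      show _ ≫ g ≫ qW = _ ≫ qV
      rw [hg]
    exact (congrArg CommRingCat.Hom.hom h1).symm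
  haveI : Algebra.EssFiniteType B O := Algebra.EssFiniteType.of_comp k B O
  haveI : CharZero B := charZero_of_injective_algebraMap (algebraMap k B).injective
  haveI : PerfectField B := PerfectField.ofCharZero
  exact (inferInstance : Algebra.FormallySmooth B O)

end Groth.L22.Sard
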