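import Groth.Agent.L22.Sard.Main

/-!
The closure of the image of the rank `≤ r` locus has dimension at most `r`.
-/

set_option autoImplicit false
set_option linter.style.haveILetI false
set_option backward.isDefEq.respectTransparency false

universe u

open CategoryTheory CategoryTheory.Limits AlgebraicGeometry TopologicalSpace IsLocalRing

namespace Groth.L22.Sard

/-- The tangent map at `x` has rank at most `r`. -/
def RankLE {X Y : Scheme.{u}} (f : X ⟶ Y) (r : ℕ) (x : X) : Prop :=
  ∃ S : Finset (CotangentSpace (X.presheaf.stalk x)), S.card ≤ r ∧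
    (LinearMap.range (FixPt.cotangentMapAt f x (f.base x) rfl) : Set (CotangentSpace (X.presheaf.stalk x))) ⊆
      (Submodule.span (ResidueField (X.presheaf.stalk x))
        (S : Set (CotangentSpace (X.presheaf.stalk x))) : Set (CotangentSpace (X.presheaf.stalk x)))

variable (k : Type u) [Field k] [IsAlgClosed k] [CharZero k] {X Y : Scheme.{u}}

theorem dim_image_irreducible (qX : X ⟶ Spec (CommRingCat.of k)) (qY : Y ⟶ Spec (CommRingCat.of k))
    [LocallyOfFiniteType qX] [LocallyOfFiniteType qY] (f : X ⟶ Y) (hf : f ≫ qY = qX) (r : ℕ) (C : Closeds X)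
    (hC : IsIrreducible (C : Set X))
    (hd : (C : Set X) ⊆ closure ({x : X | IsClosed ({x} : Set X) ∧ RankLE f r x} ∩ C)) :
    topologicalKrullDim ↥(closure (f.base '' ({x : X | IsClosed ({x} : Set X) ∧ RankLE f r x} ∩ C))) ≤ r := by
  classical
  let D : Closeds Y := ⟨closure (f.base '' C), isClosed_closure⟩
  have hsub : closure (f.base '' ({x : X | IsClosed ({x} : Set X) ∧ RankLE f r x} ∩ C)) ⊆ (D : Set Y) :=
    closure_mono (Set.image_mono Set.inter_subset_right)
  refine (Groth.L22.SchemeDim.topologicalKrullDim_mono hsub).trans ?_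
  let V := (Scheme.IdealSheafData.vanishingIdeal C).subscheme
  let W := (Scheme.IdealSheafData.vanishingIdeal D).subscheme
  let v : V ⟶ X := (Scheme.IdealSheafData.vanishingIdeal C).subschemeι
  let w : W ⟶ Y := (Scheme.IdealSheafData.vanishingIdeal D).subschemeι
  haveI : IsReduced V := Groth.L18.isReduced_vanishingIdeal_subscheme _
  haveI : IsReduced W := Groth.L18.isReduced_vanishingIdeal_subscheme _
  have hv : Set.range v = (C : Set X) := by
    rw [Scheme.IdealSheafData.range_subschemeι]; exact Groth.L18.support_vanishingIdeal C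
  have hw : Set.range w = (D : Set Y) := by
    rw [Scheme.IdealSheafData.range_subschemeι]; exact Groth.L18.support_vanishingIdeal D
  have irr : ∀ {Z T : Scheme.{u}} (i : Z ⟶ T) [IsClosedImmersion i], IsIrreducible (Set.range i) →
      IrreducibleSpace Z := fun {Z T} i _ h => by
    haveI : IrreducibleSpace (Set.range i) := Subtype.irreducibleSpace h
    exact i.isEmbedding.toHomeomorph.irreducibleSpace_iff.2 ‹_›
  haveI : IrreducibleSpace V := irr v (hv ▸ hC)
  haveI : IrreducibleSpace W := irr w (hw ▸ (hC.image _ f.continuous.continuousOn).closure)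
  haveI : IsIntegral V := isIntegral_of_irreducibleSpace_of_isReduced _
  haveI : IsIntegral W := isIntegral_of_irreducibleSpace_of_isReduced _
  have hrange : Set.range (v ≫ f) = f.base '' C := by
    rw [Scheme.Hom.comp_base, TopCat.coe_comp, Set.range_comp, hv]
  let g : V ⟶ W := IsClosedImmersion.lift w (v ≫ f) (by
    rw [Scheme.IdealSheafData.ker_subschemeι]
    exact Groth.L18.vanishingIdeal_le_ker _ _ (hrange ▸ subset_closure))
  have hg : g ≫ w = v ≫ f := IsClosedImmersion.lift_fac _ _ _
  haveI : IsDominant g := ⟨by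
    rw [DenseRange, w.isEmbedding.dense_iff]
    intro z
    rw [← Set.range_comp]
    have : Set.range (g ≫ w) = f.base '' C := by rw [hg, hrange]
    rw [Scheme.Hom.comp_base, TopCat.coe_comp] at this
    rw [this]
    exact hw.le ⟨z, rfl⟩⟩
  let qV := v ≫ qX
  let qW := w ≫ qY
  have hgq : g ≫ qW = qV := by
    simp only [qV, qW]
    rw [← Category.assoc, hg, Category.assoc, hf]
  haveI : LocallyOfFiniteType qV := inferInstanceAs (LocallyOfFiniteType (v ≫ qX))
  haveI : LocallyOfFiniteType qW := inferInstanceAs (LocallyOfFiniteType (w ≫ qY))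
  haveI : IsLocallyNoetherian W := LocallyOfFiniteType.isLocallyNoetherian qW
  haveI : LocallyOfFinitePresentation qV := by
    rw [HasRingHomProperty.iff_appLE (P := @LocallyOfFinitePresentation)]
    intro U U' e
    haveI : IsNoetherianRing Γ(Spec (CommRingCat.of k), U.1) := IsLocallyNoetherian.component_noetherian U
    exact RingHom.FinitePresentation.of_finiteType.1 (qV.finiteType_appLE U.2 U'.2 e)
  haveI : LocallyOfFinitePresentation (g ≫ qW) := hgq ▸ inferInstance
  haveI : LocallyOfFinitePresentation g := Groth.L20.locallyOfFinitePresentation_of_comp g qW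
  have hη := exists_smooth_point k qV qW g hgq
  obtain ⟨O, hO, hOe⟩ := v.isEmbedding.isInducing.isOpen_iff.1 g.smoothLocus.2
  obtain ⟨x, hxO, ⟨hxcl, S, hScard, hS⟩, hxC⟩ : (O ∩ ({x : X | IsClosed ({x} : Set X) ∧ RankLE f r x} ∩ C)).Nonempty := by
    have h1 : v (genericPoint V) ∈ O := hOe.ge hη
    exact mem_closure_iff.1 (hd (hv.le ⟨_, rfl⟩)) O hO h1
  obtain ⟨x', rfl⟩ := hv.ge hxC
  have hx'U : x' ∈ g.smoothLocus := hOe.le hxO
  have hx'cl : IsClosed ({x'} : Set V) := by
    have h := hxcl.preimage v.continuous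
    rwa [← Set.image_singleton, Set.preimage_image_eq _ v.isEmbedding.injective] at h
  haveI : LocallyOfFiniteType g := inferInstance
  haveI : JacobsonSpace W := LocallyOfFiniteType.jacobsonSpace qW
  have hy'cl : IsClosed ({g x'} : Set W) :=
    g.closePoints_subset_preimage_closedPoints hx'cl
  -- the local data
  let φ := (g.stalkMap x').hom
  haveI : IsLocalHom φ := inferInstanceAs (IsLocalHom (g.stalkMap x').hom)
  have hres : Function.Surjective (ResidueField.map φ) := residueFieldMap_surjective k qV qW g hgq hx'cl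
  letI := φ.toAlgebra
  haveI : Algebra.FormallySmooth (W.presheaf.stalk (g x')) (V.presheaf.stalk x') := by
    have h := hx'U
    rw [Scheme.Hom.mem_smoothLocus] at h
    exact h
  have hinj : Function.Injective (cotMap φ) :=
    cotMap_injective ⟨RingHom.injective _, hres⟩
  haveI : IsLocalHom (v.stalkMap x').hom := inferInstance
  let j : CotangentSpace (X.presheaf.stalk (v x')) →ₗ[ℤ] CotangentSpace (V.presheaf.stalk x') :=
    cotMap (v.stalkMap x').hom
  have hpt : f (v x') = w (g x') := by
    rw [← Scheme.Hom.comp_apply, ← Scheme.Hom.comp_apply, hg]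
  have hrange' : Set.range (cotMap φ) ⊆
      (Submodule.span (ResidueField (V.presheaf.stalk x')) ((S.image j : Finset (CotangentSpace (V.presheaf.stalk x'))) : Set (CotangentSpace (V.presheaf.stalk x'))) : Set (CotangentSpace (V.presheaf.stalk x'))) := by
    rintro _ ⟨ξ, rfl⟩
    obtain ⟨⟨a, ha⟩, rfl⟩ := (maximalIdeal (W.presheaf.stalk (g x'))).toCotangent_surjective ξ
    obtain ⟨e, he⟩ := w.stalkMap_surjective (g x') a
    have he' : e ∈ maximalIdeal _ := fun hu => ha (he ▸ hu.map (w.stalkMap (g x')).hom)
    let e' := (Y.presheaf.stalkCongr (.of_eq hpt.symm)).hom e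
    have he'm : e' ∈ maximalIdeal (Y.presheaf.stalk (f (v x'))) := fun hu => he' (by
      have h2 := hu.map (Y.presheaf.stalkCongr (.of_eq hpt.symm)).inv.hom
      rwa [show (Y.presheaf.stalkCongr (.of_eq hpt.symm)).inv e' = e from
        Iso.hom_inv_id_apply (Y.presheaf.stalkCongr (.of_eq hpt.symm)) e] at h2)
    have hmem := hS ⟨(maximalIdeal _).toCotangent ⟨e', he'm⟩, rfl⟩
    have h3 := cotMap_mem_span (v.stalkMap x').hom hmem
    rw [Finset.coe_image]
    show _ ∈ Submodule.span (ResidueField (V.presheaf.stalk x')) (j '' S)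
    convert h3 using 1
    rw [FixPt.cotangentMapAt, Ideal.mapCotangent_toCotangent, cotMap_toCotangent, cotMap_toCotangent]
    congr 1
    refine Subtype.ext ?_
    show φ a = (v.stalkMap x') ((FixPt.stalkMapAt f (v x') (f (v x')) rfl) e')
    have hid : FixPt.stalkMapAt f (v x') (f (v x')) rfl = (f.stalkMap (v x')).hom := by
      simp [FixPt.stalkMapAt, TopCat.Presheaf.stalkCongr]
    rw [hid, ← he]
    have h4 := ConcreteCategory.congr_hom (Scheme.Hom.stalkMap_congr_hom (g ≫ w) (v ≫ f) hg x') e
    rw [Scheme.Hom.stalkMap_comp, Scheme.Hom.stalkMap_comp] at h4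
    exact h4
  haveI : IsNoetherianRing (W.presheaf.stalk (g x')) := inferInstance
  have h5 := finrank_le_card φ hres hinj _ hrange'
  calc topologicalKrullDim ↥(D : Set Y) = topologicalKrullDim W :=
        Groth.L22.SchemeDim.topologicalKrullDim_eq_of_isEmbedding w.isEmbedding hw
    _ ≤ ringKrullDim (W.presheaf.stalk (g x')) := dim_le_stalk k qW hy'cl
    _ ≤ ((maximalIdeal (W.presheaf.stalk (g x'))).spanFinrank : WithBot ℕ∞) := ringKrullDim_le_spanFinrank_maximalIdeal _
    _ ≤ r := by
      rw [IsLocalRing.spanFinrank_maximalIdeal_eq_finrank_cotangentSpace_of_fg (IsNoetherian.noetherian _)]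
      exact_mod_cast h5.trans (Finset.card_image_le.trans hScard)

theorem dim_closure_image_le (qX : X ⟶ Spec (CommRingCat.of k)) (qY : Y ⟶ Spec (CommRingCat.of k))
    [LocallyOfFiniteType qX] [QuasiCompact qX] [LocallyOfFiniteType qY] (f : X ⟶ Y) (hf : f ≫ qY = qX) (r : ℕ) :
    topologicalKrullDim ↥(closure (f.base '' {x : X | IsClosed ({x} : Set X) ∧ RankLE f r x})) ≤ r := by
  haveI : IsLocallyNoetherian X := LocallyOfFiniteType.isLocallyNoetherian qX
  haveI : CompactSpace X := QuasiCompact.compactSpace_of_compactSpace qX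
  haveI : IsNoetherian X := ⟨⟩
  suffices h : ∀ C : Closeds X,
      topologicalKrullDim ↥(closure (f.base '' ({x : X | IsClosed ({x} : Set X) ∧ RankLE f r x} ∩ C))) ≤ r by
    have h' := h ⊤
    rwa [Closeds.coe_top, Set.inter_univ] at h'
  intro C
  induction C using WellFoundedLT.induction with | _ C ih => ?_
  set s := {x : X | IsClosed ({x} : Set X) ∧ RankLE f r x}
  by_cases hlt : (⟨closure (s ∩ C), isClosed_closure⟩ : Closeds X) < C
  · have h := ih _ hlt
    refine le_trans (Groth.L22.SchemeDim.topologicalKrullDim_mono (closure_mono (Set.image_mono ?_))) h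
    exact fun z hz => ⟨hz.1, subset_closure hz⟩
  have hd : (C : Set X) ⊆ closure (s ∩ C) := by
    have hle : (⟨closure (s ∩ C), isClosed_closure⟩ : Closeds X) ≤ C :=
      C.isClosed.closure_subset_iff.2 Set.inter_subset_right
    intro z hz
    by_contra hne
    exact hlt (lt_of_le_of_ne hle fun e => hne ((congrArg (fun T : Closeds X => z ∈ T) e).mpr hz))
  rcases (C : Set X).eq_empty_or_nonempty with hem | hne
  · rw [hem, Set.inter_empty, Set.image_empty, closure_empty, topologicalKrullDim, Order.krullDim_eq_bot_iff.2]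
    · exact bot_le
    · exact ⟨fun Z => Z.isIrreducible.nonempty.elim fun z _ => z.2⟩
  by_cases hirr : IsIrreducible (C : Set X)
  · exact dim_image_irreducible k qX qY f hf r C hirr hd
  obtain ⟨A, B, hA, hB, hAB⟩ : ∃ A B : Closeds X, A < C ∧ B < C ∧ (C : Set X) = (A : Set X) ∪ (B : Set X) := by
    rw [IsIrreducible, not_and_or, or_iff_right (not_not.2 hne), isPreirreducible_iff_isClosed_union_isClosed] at hirr
    push Not at hirr
    obtain ⟨z₁, z₂, h1, h2, hsub, hn1, hn2⟩ := hirr
    refine ⟨⟨C ∩ z₁, C.isClosed.inter h1⟩, ⟨C ∩ z₂, C.isClosed.inter h2⟩, ?_, ?_, ?_⟩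
    · exact Set.inter_subset_left.ssubset_of_ne fun e => hn1 (fun z hz => (e.ge hz).2)
    · exact Set.inter_subset_left.ssubset_of_ne fun e => hn2 (fun z hz => (e.ge hz).2)
    · show (C : Set X) = (C : Set X) ∩ z₁ ∪ (C : Set X) ∩ z₂
      rw [← Set.inter_union_distrib_left, Set.inter_eq_left.2 hsub]
  rw [hAB, Set.inter_union_distrib_left, Set.image_union, closure_union]
  exact dim_union_le isClosed_closure isClosed_closure (ih A hA) (ih B hB)

end Groth.L22.Sard
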