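import Mathlib.RingTheory.Smooth.Basic
import Mathlib.RingTheory.Ideal.Cotangent
import Mathlib.RingTheory.Ideal.Quotient.PowTransition
import Mathlib.RingTheory.LocalRing.ResidueField.Basic
import Mathlib.LinearAlgebra.LinearIndependent.Basic
import Mathlib.LinearAlgebra.Dimension.Finite
import Mathlib.LinearAlgebra.FiniteDimensional.Lemmas

/-!
Cotangent spaces of local rings along formally smooth maps and spans.
-/

set_option autoImplicit false
set_option linter.style.haveILetI false

universe u

open IsLocalRing

namespace Groth.L22.Sard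

variable {A B : Type u} [CommRing A] [CommRing B] [IsLocalRing A] [IsLocalRing B]

/-- The cotangent map of a local ring map. -/
noncomputable def cotMap (φ : A →+* B) [IsLocalHom φ] :
    CotangentSpace A →ₗ[ℤ] CotangentSpace B :=
  Ideal.mapCotangent (maximalIdeal A) (maximalIdeal B) φ.toIntAlgHom
    (fun a ha => map_nonunit φ a ha)

theorem cotMap_toCotangent (φ : A →+* B) [IsLocalHom φ] (a : A) (ha : a ∈ maximalIdeal A) :
    cotMap φ ((maximalIdeal A).toCotangent ⟨a, ha⟩) =
      (maximalIdeal B).toCotangent ⟨φ a, map_nonunit φ a ha⟩ :=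
  Ideal.mapCotangent_toCotangent _ _ _ _ _

theorem cotMap_smul (φ : A →+* B) [IsLocalHom φ] (c : ResidueField A) (v : CotangentSpace A) :
    cotMap φ (c • v) = ResidueField.map φ c • cotMap φ v := by
  obtain ⟨a, rfl⟩ := residue_surjective c
  obtain ⟨⟨m, hm⟩, rfl⟩ := (maximalIdeal A).toCotangent_surjective v
  rw [ResidueField.map_residue]
  rw [← ResidueField.algebraMap_eq, algebraMap_smul, ← ResidueField.algebraMap_eq, algebraMap_smul]
  rw [← map_smul (maximalIdeal A).toCotangent a, cotMap_toCotangent, cotMap_toCotangent φ m hm, ← map_smul (maximalIdeal B).toCotangent (φ a)]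
  congr 1
  exact Subtype.ext (map_mul φ a m)

theorem cotMap_mem_span (φ : A →+* B) [IsLocalHom φ] {S : Set (CotangentSpace A)} {z : CotangentSpace A}
    (hz : z ∈ Submodule.span (ResidueField A) S) :
    cotMap φ z ∈ Submodule.span (ResidueField B) (cotMap φ '' S) := by
  induction hz using Submodule.span_induction with
  | mem x hx => exact Submodule.subset_span ⟨x, hx, rfl⟩
  | zero => rw [map_zero]; exact zero_mem _
  | add x y _ _ hx hy => rw [map_add]; exact add_mem hx hy
  | smul c x _ hx => rw [cotMap_smul]; exact Submodule.smul_mem _ _ hx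

/-- A formally smooth local map with trivial residue extension is injective on cotangent spaces. -/
theorem cotMap_injective [Algebra A B] [IsLocalHom (algebraMap A B)] [Algebra.FormallySmooth A B]
    (hres : Function.Bijective (ResidueField.map (algebraMap A B))) :
    Function.Injective (cotMap (algebraMap A B)) := by
  let σ := RingEquiv.ofBijective _ hres
  let f : B →ₐ[A] ResidueField A :=
    { σ.symm.toRingHom.comp (residue B) with
      commutes' := fun a => by
        show σ.symm (residue B (algebraMap A B a)) = residue A a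
        rw [RingEquiv.symm_apply_eq]
        exact (ResidueField.map_residue (algebraMap A B) a).symm }
  let g : (A ⧸ maximalIdeal A ^ 2) →ₐ[A] ResidueField A :=
    Ideal.Quotient.liftₐ (maximalIdeal A ^ 2) (Algebra.ofId A (ResidueField A)) fun a ha =>
      residue_eq_zero_iff a |>.2 (Ideal.pow_le_self two_ne_zero ha)
  have hg : Function.Surjective g := fun c => by
    obtain ⟨a, rfl⟩ := residue_surjective c
    exact ⟨Ideal.Quotient.mk _ a, rfl⟩
  have hker : RingHom.ker (g : (A ⧸ maximalIdeal A ^ 2) →+* ResidueField A) =
      (maximalIdeal A).map (Ideal.Quotient.mk _) := by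
    ext x
    obtain ⟨a, rfl⟩ := Ideal.Quotient.mk_surjective x
    rw [RingHom.mem_ker, Ideal.mem_quotient_iff_mem (Ideal.pow_le_self two_ne_zero)]
    exact residue_eq_zero_iff a
  have hnil : IsNilpotent (RingHom.ker (g : (A ⧸ maximalIdeal A ^ 2) →+* ResidueField A)) :=
    ⟨2, by rw [hker, ← Ideal.map_pow, Ideal.zero_eq_bot, Ideal.map_quotient_self]⟩
  let l := Algebra.FormallySmooth.liftOfSurjective f g hg hnil
  have hl : ∀ b ∈ maximalIdeal B, l b ∈ (maximalIdeal A).map (Ideal.Quotient.mk (maximalIdeal A ^ 2)) :=
    fun b hb => by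
    rw [← hker, RingHom.mem_ker]
    refine (Algebra.FormallySmooth.liftOfSurjective_apply f g hg hnil b).trans ?_
    show σ.symm (residue B b) = 0
    rw [(residue_eq_zero_iff b).2 hb, map_zero]
  refine (injective_iff_map_eq_zero _).2 fun v hv => ?_
  obtain ⟨⟨m, hm⟩, rfl⟩ := (maximalIdeal A).toCotangent_surjective v
  rw [cotMap_toCotangent, Ideal.toCotangent_eq_zero] at hv
  rw [Ideal.toCotangent_eq_zero, ← Ideal.Quotient.eq_zero_iff_mem]
  have h1 : l (algebraMap A B m) ∈ ((maximalIdeal A).map (Ideal.Quotient.mk (maximalIdeal A ^ 2))) ^ 2 := by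
    have h2 : (maximalIdeal B ^ 2).map l ≤ ((maximalIdeal A).map (Ideal.Quotient.mk (maximalIdeal A ^ 2))) ^ 2 := by
      rw [Ideal.map_pow]
      exact Ideal.pow_right_mono (Ideal.map_le_iff_le_comap.2 hl) 2
    exact h2 (Ideal.mem_map_of_mem _ hv)
  rw [l.commutes, ← Ideal.map_pow, Ideal.map_quotient_self, Ideal.mem_bot] at h1
  exact h1

/-- Bounding the cotangent space from a spanning set of the image. -/
theorem finrank_le_card [IsNoetherianRing A] (φ : A →+* B) [IsLocalHom φ]
    (hres : Function.Surjective (ResidueField.map φ)) (hinj : Function.Injective (cotMap φ))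
    (S : Finset (CotangentSpace B))
    (hS : Set.range (cotMap φ) ⊆ (Submodule.span (ResidueField B) (S : Set (CotangentSpace B)) : Set _)) :
    Module.finrank (ResidueField A) (CotangentSpace A) ≤ S.card := by
  let b := Module.finBasis (ResidueField A) (CotangentSpace A)
  have hli := b.linearIndependent.map_of_surjective_injective (ResidueField.map φ) (cotMap φ).toAddMonoidHom hres
    (fun m hm => hinj (by rw [map_zero]; exact hm)) (cotMap_smul φ)
  let v : Fin (Module.finrank (ResidueField A) (CotangentSpace A)) →
      Submodule.span (ResidueField B) (S : Set (CotangentSpace B)) :=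
    fun i => ⟨cotMap φ (b i), hS ⟨b i, rfl⟩⟩
  have hv : LinearIndependent (ResidueField B) v :=
    LinearIndependent.of_comp (Submodule.subtype _) hli
  have h1 := hv.fintype_card_le_finrank
  rw [Fintype.card_fin] at h1
  exact h1.trans (finrank_span_finset_le_card S)

end Groth.L22.Sard
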